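import Groth.Agent.Lib.RedPts.Ga
import Groth.Agent.Lib.RedPts.Affine

/-! A coordinate line in a vector group. -/

set_option autoImplicit false
set_option linter.style.haveILetI false
universe u

open CategoryTheory MonoidalCategory CartesianMonoidalCategory MonObj GrpObj AlgebraicGeometry
open Groth.Agent.Lib.RedPts

namespace Groth.Agent.H25.IdemDec

noncomputable section

variable {K : Type u} [Field K]

attribute [local instance] Points.baseAlgebra

abbrev vec (K : Type u) [Field K] (n : ℕ) : Over (Spec (CommRingCat.of K)) :=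
  (Spec (CommRingCat.of (SymmetricAlgebra K (Fin n → K)))).asOver (Spec (CommRingCat.of K))

theorem algHomOf_comp {A : Type u} [CommRing A] [Bialgebra K A] {W W' : Over (Spec (CommRingCat.of K))}
    (h : W' ⟶ W) (g : W ⟶ (Spec (CommRingCat.of A)).asOver (Spec (CommRingCat.of K))) (a : A) :
    Points.algHomOf (h ≫ g) a = h.left.appTop (Points.algHomOf g a) :=
  Points.ringHomOf_comp h.left _ _

theorem appTop_algebraMap {W W' : Over (Spec (CommRingCat.of K))} (h : W' ⟶ W) (r : K) :
    h.left.appTop (algebraMap K Γ(W.left, ⊤) r) = algebraMap K Γ(W'.left, ⊤) r := by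
  change h.left.appTop (Points.baseHom W r) = Points.baseHom W' r
  simp only [Points.baseHom, ← Over.w h, Scheme.Hom.comp_appTop]
  rfl

theorem vec_mul {n : ℕ} {W : Over (Spec (CommRingCat.of K))} (g h : W ⟶ vec K n) (x : Fin n → K) :
    Points.algHomOf (g * h) (SymmetricAlgebra.ι K _ x) =
      Points.algHomOf g (SymmetricAlgebra.ι K _ x) + Points.algHomOf h (SymmetricAlgebra.ι K _ x) := by
  simp only [Points.algHomOf_mul]
  simp

theorem vec_ext {n : ℕ} {W : Over (Spec (CommRingCat.of K))} {g h : W ⟶ vec K n}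
    (e : ∀ x, Points.algHomOf g (SymmetricAlgebra.ι K _ x) = Points.algHomOf h (SymmetricAlgebra.ι K _ x)) :
    g = h :=
  Points.algHomOf_injective (SymmetricAlgebra.algHom_ext (LinearMap.ext e))

theorem isMonHom_of_mul {C : Type*} [Category C] [CartesianMonoidalCategory C] {G H : C} [GrpObj G] [GrpObj H]
    (f : G ⟶ H) (e : ∀ {T : C} (x y : T ⟶ G), (x * y) ≫ f = (x ≫ f) * (y ≫ f)) : IsMonHom f where
  one_hom := by
    have := e (1 : 𝟙_ C ⟶ G) 1
    rw [_root_.mul_one] at this
    have h1 : (1 : 𝟙_ C ⟶ G) ≫ f = 1 := by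
      simpa using this
    rwa [Hom.one_def, Hom.one_def, toUnit_unique (toUnit (𝟙_ C)) (𝟙 _), Category.id_comp, Category.id_comp] at h1
  mul_hom := by
    have := e (fst G G) (snd G G)
    rw [Hom.mul_def, lift_fst_snd, Category.id_comp] at this
    rw [this, Hom.mul_def, lift_fst_comp_snd_comp]

/-- A closed additive line in a nonzero vector group. -/
theorem exists_line {n : ℕ} (hn : 0 < n) :
    ∃ (j : Red.Ga (Spec (CommRingCat.of K)) ⟶ vec K n), IsMonHom j ∧ IsClosedImmersion j.left := by
  let S := Spec (CommRingCat.of K)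
  let e₀ : Fin n → K := Pi.single ⟨0, hn⟩ 1
  let mk : ∀ (W : Over S), Γ(W.left, ⊤) → (W ⟶ vec K n) := fun W a =>
    Points.pointOf (SymmetricAlgebra.lift ((LinearMap.toSpanSingleton K Γ(W.left, ⊤) a) ∘ₗ LinearMap.proj ⟨0, hn⟩))
  have hmk : ∀ (W : Over S) a x, Points.algHomOf (mk W a) (SymmetricAlgebra.ι K _ x) = x ⟨0, hn⟩ • a := by
    intro W a x
    simp only [mk, Points.algHomOf_pointOf, SymmetricAlgebra.lift_ι_apply]
    rfl
  let j : Red.Ga S ⟶ vec K n := mk _ (Red.gaFn (𝟙 (Red.Ga S)))
  have hj : ∀ {W : Over S} (a : W ⟶ Red.Ga S), a ≫ j = mk W (Red.gaFn a) := by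
    intro W a
    refine vec_ext fun x => ?_
    rw [algHomOf_comp, hmk, hmk, Algebra.smul_def, Algebra.smul_def, map_mul, ← Ga.gaFn_comp, Category.comp_id]
    rw [appTop_algebraMap]
  let r : vec K n ⟶ Red.Ga S := Ga.gaPt (Points.algHomOf (𝟙 (vec K n)) (SymmetricAlgebra.ι K _ e₀))
  have hjr : j ≫ r = 𝟙 _ := by
    apply Ga.gaFn_injective
    rw [Ga.gaFn_comp, Ga.gaFn_gaPt, ← algHomOf_comp, Category.comp_id, hmk]
    simp only [e₀, Pi.single_eq_same]
    exact one_smul K _
  refine ⟨j, isMonHom_of_mul (G := Red.Ga S) (H := vec K n) j fun {T} x y => ?_, ?_⟩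
  · refine vec_ext fun v => ?_
    rw [vec_mul, hj, hj, hj, hmk, hmk, hmk, Ga.gaFn_mul, smul_add]
  · haveI : IsClosedImmersion (j.left ≫ r.left) := by
      rw [← Over.comp_left, hjr, Over.id_left]; infer_instance
    haveI : IsSeparated r.left := by
      haveI : IsSeparated (r.left ≫ (Red.Ga S).hom) := by
        rw [Over.w r]
        exact inferInstanceAs (IsSeparated (Spec.map (CommRingCat.ofHom (algebraMap K (SymmetricAlgebra K (Fin n → K))))))
      exact IsSeparated.of_comp r.left (Red.Ga S).hom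
    exact IsClosedImmersion.of_comp j.left r.left

/-- A zero-dimensional vector group is a point. -/
theorem subsingleton_vec_zero : Subsingleton (vec K 0).left := by
  have hsur : Function.Surjective (algebraMap K (SymmetricAlgebra K (Fin 0 → K))) := by
    intro a
    have h : (Algebra.ofId K (SymmetricAlgebra K (Fin 0 → K))).comp (SymmetricAlgebra.algebraMapInv) = AlgHom.id K _ :=
      SymmetricAlgebra.algHom_ext (LinearMap.ext fun x => by
        rw [Subsingleton.elim x 0, map_zero, map_zero])
    exact ⟨_, DFunLike.congr_fun h a⟩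
  show Subsingleton (PrimeSpectrum (SymmetricAlgebra K (Fin 0 → K)))
  exact ⟨fun x y => PrimeSpectrum.comap_injective_of_surjective _ hsur (Subsingleton.elim _ _)⟩

end

end Groth.Agent.H25.IdemDec
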