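import Groth.Prelude.Def_SGA7IX
import Groth.Agent.H25.IdemDec.VecLine
import Groth.Agent.Lib.GrpQ.RedSubgroup
import Groth.Agent.H63.GrpIdentity
import Groth.Agent.H63.GrpSmooth
import Groth.Agent.H63.GrpDim
import Groth.Agent.H63.GrpConnected
import Groth.Agent.H52.FBase.GeomRedSch
import Groth.Agent.Lib.ActSep.GrpArt
import Groth.Agent.Lib.KilledAff89.Basic
import Groth.Agent.Lib.GrpQ.FlatHom
import Groth.Agent.H4.IsogenyDim
import Groth.Agent.H4.NPowEtale
import Groth.Agent.H83.Fppf
import Groth.Agent.H2.Rigid.GeomIrred
import Groth.Agent.Lib.GrpQ.Kernel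
import Groth.Agent.Lib.Flat55.FibreTransfer
import Groth.Agent.S8198

/-! Power maps on groups without additive subgroups are fppf coverings. -/

set_option autoImplicit false
set_option linter.style.haveILetI false
set_option maxHeartbeats 1000000
universe u

open CategoryTheory CategoryTheory.Limits MonoidalCategory CartesianMonoidalCategory MonObj GrpObj AlgebraicGeometry
open Groth.Agent Groth.Agent.Lib Groth.Agent.Lib.GrpQ Groth.Agent.H63.GrpIdentity Groth.Agent.H63.GrpIrred

namespace Groth.Agent.H25.IdemDec

noncomputable section

/-- A group whose unit is an open point is finite. -/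
theorem isFinite_of_isolated_unit {k : Type u} [Field k] (N : Over (Spec (CommRingCat.of k))) [GrpObj N] [LocallyOfFiniteType N.hom]
    [QuasiCompact N.hom] (ho : IsOpen ({unitPt N} : Set N.left)) : IsFinite N.hom := by
  haveI : IsSeparated N.hom := GrpSch.isSeparated_of_field N
  haveI : IsClosedImmersion η[N].left := by
    haveI : IsClosedImmersion (η[N].left ≫ N.hom) := by
      rw [Over.w η[N]]
      exact inferInstanceAs (IsClosedImmersion (𝟙 _))
    exact IsClosedImmersion.of_comp η[N].left N.hom
  have hc : IsClosed ({unitPt N} : Set N.left) := by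
    have hmem : unitPt N ∈ Set.range η[N].left := ⟨_, rfl⟩
    have h : ({unitPt N} : Set N.left) = Set.range η[N].left := by
      refine Set.Subset.antisymm (Set.singleton_subset_iff.2 hmem) ?_
      rintro _ ⟨x, rfl⟩
      obtain ⟨y, hy⟩ := hmem
      rw [Set.mem_singleton_iff, ← hy, Subsingleton.elim (α := Spec (CommRingCat.of k)) y x]
    rw [h]
    exact η[N].left.isClosedEmbedding.isClosed_range
  have hg : genPt N (unitPt N) = unitPt N := by
    have hsp : genPt N (unitPt N) ⤳ unitPt N := (genPt_isGeneric N _).specializes mem_irreducibleComponent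
    exact hsp.mem_open ho rfl
  have hcl : ∀ x : N.left, IsClosed ({x} : Set N.left) := fun x => by
    rw [← VarDim.Basic.pdim_eq_zero_iff N.hom]
    have h := VarDim.Basic.pdim_le_topologicalKrullDim_scheme N.hom x
    rw [Groth.Agent.H63.GrpDim.topologicalKrullDim_eq, hg, (VarDim.Basic.pdim_eq_zero_iff N.hom (unitPt N)).2 hc] at h
    exact Nat.le_zero.1 (by exact_mod_cast h)
  haveI : IsLocallyNoetherian N.left := LocallyOfFiniteType.isLocallyNoetherian N.hom
  haveI : CompactSpace N.left := QuasiCompact.compactSpace_of_compactSpace N.hom
  haveI : IsNoetherian N.left := { }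
  have hfin : Finite N.left := by
    haveI := (TopologicalSpace.NoetherianSpace.finite_irreducibleComponents (α := N.left)).to_subtype
    refine Finite.of_injective (fun x : N.left =>
      (⟨irreducibleComponent x, irreducibleComponent_mem_irreducibleComponents x⟩ : irreducibleComponents N.left)) ?_
    intro x y hxy
    have e : irreducibleComponent x = irreducibleComponent y := congrArg Subtype.val hxy
    have key : ∀ z : N.left, genPt N z = z := fun z =>
      ((hcl (genPt N z)).closure_eq.le ((genPt_isGeneric N z).specializes mem_irreducibleComponent).mem_closure).symm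
    have h2 : y ∈ irreducibleComponent x := e ▸ mem_irreducibleComponent
    rw [mem_component_iff] at h2
    rw [← key x, ← key y, h2]
  haveI : LocallyQuasiFinite N.hom := LocallyQuasiFinite.of_finite_preimage_singleton N.hom fun x => Set.toFinite _
  exact IsFinite.of_locallyQuasiFinite N.hom

theorem quasiCompact_of_connected {k : Type u} [Field k] (H : Over (Spec (CommRingCat.of k))) [GrpObj H] [LocallyOfFiniteType H.hom]
    [ConnectedSpace H.left] : QuasiCompact H.hom := by
  haveI := Groth.Agent.H63.GrpIdentity.compactSpace_idScheme H
  haveI : CompactSpace H.left := ⟨by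
    have h := isCompact_range (Groth.Agent.H63.GrpIdentity.idIncl H).continuous
    rwa [Groth.Agent.H63.GrpIdentity.range_idIncl, ← Groth.Agent.H63.GrpConnected.connectedComponent_unit,
      PreconnectedSpace.connectedComponent_eq_univ] at h⟩
  exact (quasiCompact_iff_compactSpace H.hom).2 ‹CompactSpace H.left›

/-- Over an algebraically closed field of characteristic `p`, a commutative group killed by `p` without
closed additive subgroup is finite. -/
theorem isFinite_of_killed {K : Type u} [Field K] [IsAlgClosed K] (p : ℕ) [Fact p.Prime] [CharP K p]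
    (N : Over (Spec (CommRingCat.of K))) [GrpObj N] [LocallyOfFiniteType N.hom] [QuasiCompact N.hom]
    (hc : ∀ (T : Over (Spec (CommRingCat.of K))) (x y : T ⟶ N), x * y = y * x)
    (hp : ∀ (T : Over (Spec (CommRingCat.of K))) (x : T ⟶ N), x ^ p = 1)
    (hG : ∀ j : Red.Ga (Spec (CommRingCat.of K)) ⟶ N, IsMonHom j → IsClosedImmersion j.left → False) :
    IsFinite N.hom := by
  classical
  haveI := GrpSch.isSeparated_of_field N
  -- identity component, reduced
  letI := idGrp N
  haveI := isMonHom_idHom N
  haveI : IsClosedImmersion (idHom N).left := isClosedImmersion_idIncl N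
  haveI : Flat (idHom N).left := flat_idIncl N
  haveI : IsLocallyNoetherian N.left := LocallyOfFiniteType.isLocallyNoetherian N.hom
  haveI : IsOpenImmersion (idHom N).left := IsOpenImmersion.of_flat_of_mono _
  haveI : LocallyOfFiniteType (idObj N).hom := by rw [← Over.w (idHom N)]; infer_instance
  haveI : QuasiCompact (idObj N).hom := by rw [← Over.w (idHom N)]; infer_instance
  obtain ⟨R, _, r, hrm, hrc, hrs, hRred⟩ := RedSubgroup.exists_reduced_subgroup (idObj N)
  haveI := hrm; haveI := hrc; haveI := hrs; haveI := hRred
  let h : R ⟶ N := r ≫ idHom N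
  haveI : IsClosedImmersion h.left := by simp only [h, Over.comp_left]; infer_instance
  haveI : IsMonHom h := inferInstance
  haveI : Mono h := Over.mono_of_mono_left h
  haveI : LocallyOfFiniteType R.hom := by rw [← Over.w r]; infer_instance
  haveI : QuasiCompact R.hom := by rw [← Over.w r]; infer_instance
  haveI : Smooth R.hom := by
    haveI : GeometricallyReduced R.hom := H52.FBase.GeomRedSch.geometricallyReduced_of_perfectField R.hom
    haveI : GrpObj (Over.mk R.hom) := inferInstanceAs (GrpObj R)
    exact smooth_of_grpObj R.hom
  have hrange : Set.range (idIncl N) = Groth.Agent.H63.GrpComponent.comp0 N := range_idIncl N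
  haveI : ConnectedSpace R.left := by
    have hs : Function.Surjective r.left := r.left.surjective
    have hi : IsIrreducible (Set.range ((idHom N).left ∘ r.left)) := by
      rw [hs.range_comp]
      show IsIrreducible (Set.range (idIncl N))
      rw [hrange]
      exact isIrreducible_irreducibleComponent
    have hemb : Topology.IsEmbedding ((idHom N).left ∘ r.left) :=
      (idHom N).left.isClosedEmbedding.isEmbedding.comp r.left.isClosedEmbedding.isEmbedding
    haveI : PreconnectedSpace R.left := ⟨by
      rw [← hemb.isInducing.isPreconnected_image, Set.image_univ]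
      exact hi.2.isPreconnected⟩
    exact { toNonempty := ⟨unitPt R⟩ }
  have hkill : ∀ (T : Over (Spec (CommRingCat.of K))) (g : T ⟶ R), g ^ p = 1 := fun T g => by
    rw [← cancel_mono h, MonObj.pow_comp, MonObj.one_comp, hp]
  haveI : IsAffine R.left := KilledAff89.isAffine_of_killed R (Fact.out (p := p.Prime)).pos (hkill R (𝟙 R))
  obtain ⟨n, ⟨e⟩⟩ := Groth.Agent.S8198.result K p R (fun T g g' => by
    rw [← cancel_mono h, MonObj.mul_comp, MonObj.mul_comp, hc]) hkill
  have hsub : Subsingleton R.left := by
    rcases Nat.eq_zero_or_pos n with rfl | hn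
    · haveI := subsingleton_vec_zero (K := K)
      haveI : IsIso e.hom.hom.hom.left := ((Over.forget _).mapIso ((Grp.forget _).mapIso e)).isIso_hom
      exact ⟨fun a b => e.hom.hom.hom.left.homeomorph.injective (Subsingleton.elim _ _)⟩
    · exfalso
      obtain ⟨j, hj, hjc⟩ := exists_line (K := K) hn
      haveI := hj; haveI := hjc
      let j₁ : vec K n ⟶ R := e.inv.hom.hom
      haveI : IsMonHom j₁ := e.inv.hom.isMonHom_hom
      haveI : IsIso j₁.left := ((Over.forget _).mapIso ((Grp.forget _).mapIso e)).isIso_inv
      refine hG ((j ≫ j₁) ≫ h) inferInstance ?_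
      rw [Over.comp_left, Over.comp_left]
      infer_instance
  refine isFinite_of_isolated_unit N ?_
  have ho : IsOpen (Set.range (idIncl N)) := (idHom N).left.isOpenEmbedding.isOpen_range
  convert ho using 1
  refine Set.Subset.antisymm (Set.singleton_subset_iff.2 (hrange ▸ mem_irreducibleComponent)) ?_
  rintro _ ⟨y, rfl⟩
  obtain ⟨z, hz⟩ : unitPt N ∈ Set.range (idIncl N) := hrange ▸ mem_irreducibleComponent
  haveI : Subsingleton (idObj N).left := r.left.surjective.subsingleton
  rw [Set.mem_singleton_iff, ← hz]
  exact congrArg _ (Subsingleton.elim (α := (idObj N).left) _ _)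

/-- The multiplication by a prime `n` is an fppf covering on a smooth connected commutative group without
additive subgroups in its geometric fibre. -/
theorem isCov_pow {k : Type u} [Field k] (G : Over (Spec (CommRingCat.of k))) [GrpObj G] [IsCommMonObj G]
    [Smooth G.hom] [ConnectedSpace G.left] (hG : SGA7.FibresUnipotentRankZero G) {n : ℕ} (hn : n.Prime) :
    H83.Fppf.IsCov ((𝟙 G : G ⟶ G) ^ n) := by
  classical
  let u : G ⟶ G := (𝟙 G : G ⟶ G) ^ n
  haveI : IsMonHom u := H4.NPowEtale.isMonHom_pow_id G n
  haveI : QuasiCompact G.hom := quasiCompact_of_connected G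
  haveI : IsIntegral G.left := H2.Rigid.GeomIrred.isIntegral_of_smooth G.hom
  haveI := GrpSch.isSeparated_of_field G
  haveI := GrpQ.quasiCompact_left u
  haveI : LocallyOfFiniteType (u.left ≫ G.hom) := by rw [Over.w]; infer_instance
  haveI : LocallyOfFiniteType u.left := locallyOfFiniteType_of_comp u.left G.hom
  haveI : IsFinite u.left := by
    by_cases hk : (n : k) = 0
    · haveI : Fact n.Prime := ⟨hn⟩
      obtain ⟨s⟩ : Nonempty (Spec (CommRingCat.of k) : Scheme.{u}) := inferInstance
      let Ω := AlgebraicClosure ((Spec (CommRingCat.of k)).residueField s)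
      let f : Spec (CommRingCat.of Ω) ⟶ Spec (CommRingCat.of k) := Red.geomPt s
      haveI : CharP k n := by
        obtain ⟨q, hq⟩ := CharP.exists k
        have hd : q ∣ n := (CharP.cast_eq_zero_iff k q n).1 hk
        rcases (Nat.dvd_prime hn).1 hd with rfl | rfl
        · exact absurd rfl (CharP.char_ne_one k 1)
        · exact hq
      haveI : CharP Ω n := charP_of_injective_ringHom (Spec.preimage f).hom.injective n
      obtain ⟨N, _, i, hi, hic, hN, -⟩ := GrpQ.exists_kernel u
      haveI := hi; haveI := hic
      haveI : Mono i := Over.mono_of_mono_left i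
      haveI : LocallyOfFiniteType N.hom := by rw [← Over.w i]; infer_instance
      haveI : QuasiCompact N.hom := by rw [← Over.w i]; infer_instance
      have hiu : i ≫ u = 1 := GrpQ.kernel_comp hN
      have hkN : ∀ (T : Over (Spec (CommRingCat.of k))) (g : T ⟶ N), g ^ n = 1 := fun T g => by
        rw [← cancel_mono i, MonObj.pow_comp, MonObj.one_comp]
        calc (g ≫ i) ^ n = (g ≫ i) ≫ u := by simp only [u, MonObj.comp_pow, Category.comp_id]
          _ = 1 := by rw [Category.assoc, hiu, MonObj.comp_one]
      let NL := Red.bc f N
      haveI : LocallyOfFiniteType NL.hom := GrpSch.bc_hom_of (P := @LocallyOfFiniteType) f N inferInstance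
      haveI : QuasiCompact NL.hom := GrpSch.bc_hom_of (P := @QuasiCompact) f N inferInstance
      haveI : IsFinite NL.hom := isFinite_of_killed n NL
        (fun T x y => RedPts.BC.down_injective (by
          rw [RedPts.BC.down_mul, RedPts.BC.down_mul, ← cancel_mono i, MonObj.mul_comp, MonObj.mul_comp, mul_comm]))
        (fun T x => RedPts.BC.down_injective (by
          rw [RedPts.BC.down_one]
          exact (map_pow (RedPts.BC.downMulEquiv f T N) x n).trans (hkN _ _)))
        (fun j hj hjc => by
          haveI := hj; haveI := hjc
          haveI : IsMonHom ((Over.pullback f).map i) := GrpSch.isMonHom_bc_map f i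
          haveI : IsClosedImmersion ((Over.pullback f).map i).left :=
            GrpSch.bc_map_left_of (P := @IsClosedImmersion) f i inferInstance
          refine hG s (j ≫ (Over.pullback f).map i) inferInstance ?_
          rw [Over.comp_left]
          infer_instance)
      haveI : Finite (pullback N.hom f : Scheme.{u}) := Set.finite_univ_iff.1
        ((NL.hom.finite_preimage_singleton (IsLocalRing.closedPoint Ω)).subset fun x _ =>
          Set.mem_singleton_iff.2 (Subsingleton.elim (α := PrimeSpectrum Ω) _ _))
      haveI : Surjective f := ⟨fun x => ⟨IsLocalRing.closedPoint Ω, Subsingleton.elim (α := PrimeSpectrum k) _ _⟩⟩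
      haveI : Surjective (pullback.fst N.hom f) := inferInstance
      haveI : Finite N.left := Finite.of_surjective _ (pullback.fst N.hom f).surjective
      haveI : LocallyQuasiFinite N.hom := LocallyQuasiFinite.of_finite_preimage_singleton N.hom fun x => Set.toFinite _
      haveI : LocallyQuasiFinite (pullback.snd u.left η[G].left) := by
        have hP : IsPullback i.left (toUnit N).left u.left η[G].left := hN.map (Over.forget _)
        haveI : LocallyQuasiFinite (toUnit N).left := by
          have : (toUnit N).left = N.hom := (Category.comp_id _).symm.trans (Over.w (toUnit N))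
          rw [this]; infer_instance
        rw [← hP.isoPullback_inv_snd]
        infer_instance
      haveI := ActSep.locallyQuasiFinite_of_ker u
      exact ActSep.isFinite_of_locallyQuasiFinite u
    · haveI := H4.NPowEtale.etale_pow (G := G) hk
      haveI : LocallyQuasiFinite u.left :=
        H4.NPowEtale.locallyQuasiFinite_of_formallyUnramified ((𝟙 G : G ⟶ G) ^ n).left
      exact ActSep.isFinite_of_locallyQuasiFinite u
  haveI := H4.IsogenyDim.surjective_of_finite u le_rfl
  refine ⟨inferInstance, GrpQ.flat_of_surjective_of_smooth u, ?_⟩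
  exact Flat55.FibreTransfer.locallyOfFinitePresentation_of_comp
    (show LocallyOfFinitePresentation (u.left ≫ G.hom) by rw [Over.w]; infer_instance) inferInstance

end

end Groth.Agent.H25.IdemDec
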