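import Groth.Prelude.Def_AlgGrp
import Groth.Agent.H83.Fppf
import Groth.Agent.H25.IdemDec.VecLine
import Groth.Agent.Lib.GrpQ.Kernel

/-! Idempotents obtained by dividing by an integer. -/

set_option autoImplicit false
set_option linter.unusedSectionVars false
set_option linter.unusedSimpArgs false
set_option linter.style.haveILetI false
universe u

open CategoryTheory CategoryTheory.Limits MonoidalCategory CartesianMonoidalCategory MonObj GrpObj AlgebraicGeometry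
open Groth.Agent Groth.Agent.Lib

namespace Groth.Agent.H25.IdemDec

noncomputable section

variable {S : Scheme.{u}} {G : Over S} [GrpObj G] [IsCommMonObj G]

theorem comp_npow_id {T : Over S} (x : T ⟶ G) (n : ℕ) : x ≫ ((𝟙 G : G ⟶ G) ^ n) = x ^ n := by
  rw [MonObj.comp_pow, Category.comp_id]

theorem npow_id_comp (f : G ⟶ G) [IsMonHom f] (n : ℕ) : ((𝟙 G : G ⟶ G) ^ n) ≫ f = f ^ n := by
  rw [MonObj.pow_comp, Category.id_comp]

theorem isMonHom_mul' (f g : G ⟶ G) [IsMonHom f] [IsMonHom g] : IsMonHom (f * g) :=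
  isMonHom_of_mul (f * g) fun x y => by
    simp only [MonObj.comp_mul, MonObj.mul_comp]
    exact mul_mul_mul_comm _ _ _ _

theorem isMonHom_npow (f : G ⟶ G) [IsMonHom f] (n : ℕ) : IsMonHom (f ^ n) :=
  isMonHom_of_mul (f ^ n) fun x y => by
    simp only [MonObj.comp_pow, MonObj.mul_comp]
    exact mul_pow _ _ n

theorem npow_left_inj {n : ℕ} (hcov : H83.Fppf.IsCov ((𝟙 G : G ⟶ G) ^ n)) {f g : G ⟶ G} [IsMonHom f]
    [IsMonHom g] (h : f ^ n = g ^ n) : f = g :=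
  hcov.cancel (by rw [npow_id_comp, npow_id_comp, h])

theorem isCov_npow_mul {m n : ℕ} (hm : H83.Fppf.IsCov ((𝟙 G : G ⟶ G) ^ m))
    (hn : H83.Fppf.IsCov ((𝟙 G : G ⟶ G) ^ n)) : H83.Fppf.IsCov ((𝟙 G : G ⟶ G) ^ (m * n)) := by
  have h := hm.comp hn
  rwa [comp_npow_id, ← pow_mul] at h

/-- A homomorphism killing the `n`-torsion is an `n`-th power of a homomorphism. -/
theorem exists_root {n : ℕ} (hcov : H83.Fppf.IsCov ((𝟙 G : G ⟶ G) ^ n)) (N : G ⟶ G) [IsMonHom N]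
    (h : ∀ (T : Over S) (x : T ⟶ G), x ^ n = 1 → x ≫ N = 1) :
    ∃ p : G ⟶ G, IsMonHom p ∧ p ^ n = N := by
  obtain ⟨p, hp⟩ := hcov.exists_desc N fun T a b e => by
    rw [comp_npow_id, comp_npow_id] at e
    have h1 := h T (a / b) (by rw [div_pow, e, div_self'])
    have h2 : a / b * b = a := div_mul_cancel a b
    calc a ≫ N = (a / b * b) ≫ N := by rw [h2]
      _ = b ≫ N := by rw [MonObj.mul_comp, h1, _root_.one_mul]
  haveI : IsMonHom ((𝟙 G : G ⟶ G) ^ n) := isMonHom_npow (𝟙 G) n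
  have hm : IsMonHom p := isMonHom_of_mul p fun x y => by
    have key : (fst G G * snd G G) ≫ p = (fst G G ≫ p) * (snd G G ≫ p) := by
      refine (hcov.tensor hcov).cancel ?_
      simp only [MonObj.comp_mul, tensorHom_fst_assoc, tensorHom_snd_assoc, ← Category.assoc]
      rw [tensorHom_fst, tensorHom_snd, ← MonObj.mul_comp]
      simp only [Category.assoc, hp]
      exact MonObj.mul_comp _ _ N
    have h3 := congrArg (lift x y ≫ ·) key
    simp only [MonObj.comp_mul, ← Category.assoc, lift_fst, lift_snd] at h3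
    exact h3
  haveI := hm
  exact ⟨p, hm, by rw [← npow_id_comp, hp]⟩

theorem idem_of_root {n : ℕ} (hcov : H83.Fppf.IsCov ((𝟙 G : G ⟶ G) ^ n)) {p N : G ⟶ G} [IsMonHom p]
    (hp : p ^ n = N) (hN : N ≫ N = N ^ n) : p ≫ p = p := by
  have h : ((p ≫ p) ^ n) ^ n = (p ^ n) ^ n := by
    rw [← hp] at hN
    rw [MonObj.comp_pow, MonObj.pow_comp] at hN
    exact hN
  haveI := isMonHom_npow (p ≫ p) n
  haveI := isMonHom_npow p n
  exact npow_left_inj hcov (npow_left_inj hcov h)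

/-- Splitting of a group along an idempotent endomorphism. -/
theorem exists_split [IsSeparated G.hom] [ConnectedSpace G.left] (p : G ⟶ G) [IsMonHom p] (hp : p ≫ p = p) :
    ∃ (G₁ G₂ : Over S) (_ : GrpObj G₁) (_ : GrpObj G₂) (i₁ : G₁ ⟶ G) (i₂ : G₂ ⟶ G),
      IsMonHom i₁ ∧ IsMonHom i₂ ∧ IsClosedImmersion i₁.left ∧ IsClosedImmersion i₂.left ∧
      AlgGrp.IsKernel i₁ (𝟙 G * p⁻¹) ∧ AlgGrp.IsKernel i₂ p ∧
      ConnectedSpace ↥G₁.left ∧ ConnectedSpace ↥G₂.left ∧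
      IsIso ((i₁ ⊗ₘ i₂) ≫ μ[G]) := by
  let q : G ⟶ G := 𝟙 G * p⁻¹
  haveI : IsMonHom q := isMonHom_of_mul q fun x y => by
    simp only [q, MonObj.comp_mul, GrpObj.comp_inv, Category.comp_id, MonObj.mul_comp, _root_.mul_inv]
    exact mul_mul_mul_comm _ _ _ _
  have hpq : p ≫ q = 1 := by
    simp only [q, MonObj.comp_mul, GrpObj.comp_inv, Category.comp_id, hp, mul_inv_cancel]
  have hqp : q ≫ p = 1 := by
    simp only [q, MonObj.mul_comp, GrpObj.inv_comp, Category.id_comp, hp, mul_inv_cancel]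
  obtain ⟨G₁, _, i₁, hi₁, hc₁, hK₁, -⟩ := GrpQ.exists_kernel q
  obtain ⟨G₂, _, i₂, hi₂, hc₂, hK₂, -⟩ := GrpQ.exists_kernel p
  haveI := hc₁; haveI := hc₂; haveI := hi₁; haveI := hi₂
  haveI : Mono i₁ := Over.mono_of_mono_left i₁
  haveI : Mono i₂ := Over.mono_of_mono_left i₂
  let r₁ : G ⟶ G₁ := hK₁.lift p (toUnit G) (by rw [hpq, Hom.one_def])
  let r₂ : G ⟶ G₂ := hK₂.lift q (toUnit G) (by rw [hqp, Hom.one_def])
  have hr₁ : r₁ ≫ i₁ = p := hK₁.lift_fst _ _ _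
  have hr₂ : r₂ ≫ i₂ = q := hK₂.lift_fst _ _ _
  have e₁ : i₁ ≫ p = i₁ := by
    have h : i₁ ≫ q = 1 := GrpQ.kernel_comp hK₁
    simp only [q, MonObj.comp_mul, GrpObj.comp_inv, Category.comp_id, mul_inv_eq_one] at h
    exact h.symm
  have e₂' : i₂ ≫ p = 1 := GrpQ.kernel_comp hK₂
  have e₂ : i₂ ≫ q = i₂ := by
    simp only [q, MonObj.comp_mul, GrpObj.comp_inv, Category.comp_id, e₂', inv_one, _root_.mul_one]
  have e₁' : i₁ ≫ q = 1 := GrpQ.kernel_comp hK₁
  have s₁ : i₁ ≫ r₁ = 𝟙 G₁ := by rw [← cancel_mono i₁, Category.assoc, hr₁, e₁, Category.id_comp]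
  have s₂ : i₂ ≫ r₂ = 𝟙 G₂ := by rw [← cancel_mono i₂, Category.assoc, hr₂, e₂, Category.id_comp]
  have hm : (i₁ ⊗ₘ i₂) ≫ μ[G] = (fst G₁ G₂ ≫ i₁) * (snd G₁ G₂ ≫ i₂) := by
    rw [Hom.mul_def, lift_fst_comp_snd_comp]
  have hsurj : ∀ {H : Over S} (r : G ⟶ H) (i : H ⟶ G), i ≫ r = 𝟙 H → ConnectedSpace H.left := by
    intro H r i e
    refine Function.Surjective.connectedSpace (f := r.left) (fun y => ⟨i.left y, ?_⟩) r.left.continuous
    rw [← Scheme.Hom.comp_apply, ← Over.comp_left, e]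
    rfl
  refine ⟨G₁, G₂, inferInstance, inferInstance, i₁, i₂, hi₁, hi₂, hc₁, hc₂, hK₁, hK₂, hsurj r₁ i₁ s₁, hsurj r₂ i₂ s₂, ?_⟩
  refine ⟨lift r₁ r₂, ?_, ?_⟩
  · apply CartesianMonoidalCategory.hom_ext
    · rw [Category.assoc, lift_fst, Category.id_comp, ← cancel_mono i₁, Category.assoc, hr₁, hm,
        MonObj.mul_comp, Category.assoc, Category.assoc, e₁, e₂', MonObj.comp_one, _root_.mul_one]
    · rw [Category.assoc, lift_snd, Category.id_comp, ← cancel_mono i₂, Category.assoc, hr₂, hm,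
        MonObj.mul_comp, Category.assoc, Category.assoc, e₁', e₂, MonObj.comp_one, _root_.one_mul]
  · rw [hm, MonObj.comp_mul, lift_fst_assoc, lift_snd_assoc, hr₁, hr₂]
    simp [q]

/-- The idempotent attached to an automorphism of order two or three congruent to one on torsion. -/
theorem exists_idem (u : Aut G) [IsMonHom u.hom]
    (h2 : H83.Fppf.IsCov ((𝟙 G : G ⟶ G) ^ 2)) (h3 : H83.Fppf.IsCov ((𝟙 G : G ⟶ G) ^ 3))
    (h : (u * u = 1 ∧ ∀ (T : Over S) (x : T ⟶ G), x ^ 2 = 1 → x ≫ u.hom = x) ∨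
      (u * u = 1 ∧ ∀ (T : Over S) (x : T ⟶ G), x ^ 4 = 1 →
        (((x ≫ u.hom) * x⁻¹) ≫ u.hom) * ((x ≫ u.hom) * x⁻¹)⁻¹ = 1) ∨
      (u * u * u = 1 ∧ ∀ (T : Over S) (x : T ⟶ G), x ^ 3 = 1 →
        (((x ≫ u.hom) * x⁻¹) ≫ u.hom) * ((x ≫ u.hom) * x⁻¹)⁻¹ = 1)) :
    ∃ p : G ⟶ G, IsMonHom p ∧ p ≫ p = p ∧
      (u * u = 1 → p * p = 𝟙 G * u.hom) ∧ (u * u * u = 1 → p * p * p = 𝟙 G * u.hom * (u * u).hom) := by
  have h22 : u * u = 1 → u.hom ≫ u.hom = 𝟙 G := fun e => congrArg Iso.hom e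
  have h33 : u * u * u = 1 → u.hom ≫ (u.hom ≫ u.hom) = 𝟙 G := fun e => congrArg Iso.hom e
  have both : u * u = 1 → u * u * u = 1 → u = 1 := fun e e' => by rwa [e, _root_.one_mul] at e'
  have order2 : u * u = 1 → ∀ p : G ⟶ G, IsMonHom p → p ^ 2 = 𝟙 G * u.hom → IsMonHom p ∧ p ≫ p = p ∧
      (u * u = 1 → p * p = 𝟙 G * u.hom) ∧ (u * u * u = 1 → p * p * p = 𝟙 G * u.hom * (u * u).hom) := by
    intro e p hpm hp
    haveI := hpm
    refine ⟨hpm, idem_of_root h2 hp ?_, fun _ => by rw [← pow_two, hp], fun e' => ?_⟩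
    · simp only [MonObj.comp_mul, MonObj.mul_comp, Category.id_comp, Category.comp_id, h22 e, pow_two]
      ac_rfl
    · obtain rfl := both e e'
      have : p = 𝟙 G := npow_left_inj h2 (hp.trans (pow_two _).symm)
      subst this
      rfl
  rcases h with ⟨e, hx⟩ | ⟨e, hx⟩ | ⟨e, hx⟩
  · haveI := isMonHom_mul' (𝟙 G) u.hom
    obtain ⟨p, hpm, hp⟩ := exists_root h2 (𝟙 G * u.hom) fun T x hx2 => by
      rw [MonObj.comp_mul, Category.comp_id, hx T x hx2, ← pow_two, hx2]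
    exact ⟨p, order2 e p hpm hp⟩
  · haveI := isMonHom_mul' (𝟙 G) u.hom
    haveI := isMonHom_npow (𝟙 G * u.hom) 2
    obtain ⟨p, hpm, hp⟩ := exists_root (isCov_npow_mul h2 h2) ((𝟙 G * u.hom) ^ 2) fun T x hx4 => by
      have h1 := hx T x hx4
      simp only [MonObj.mul_comp, GrpObj.inv_comp, Category.assoc, h22 e, Category.comp_id, mul_inv_eq_one] at h1
      -- `h1 : x * (x ≫ u.hom)⁻¹ = (x ≫ u.hom) * x⁻¹`
      rw [MonObj.comp_pow, MonObj.comp_mul, Category.comp_id]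
      have h4 : (x ≫ u.hom) * (x ≫ u.hom) = x * x := by
        rw [mul_inv_eq_iff_eq_mul] at h1
        have h5 := congrArg (· * x) h1
        refine Eq.symm (h5.trans ?_)
        calc (x ≫ u.hom) * x⁻¹ * (x ≫ u.hom) * x = (x ≫ u.hom) * (x ≫ u.hom) * (x⁻¹ * x) := by ac_rfl
          _ = _ := by rw [inv_mul_cancel, _root_.mul_one]
      calc (x * (x ≫ u.hom)) ^ 2 = (x * x) * ((x ≫ u.hom) * (x ≫ u.hom)) := by
            rw [pow_two]; exact mul_mul_mul_comm _ _ _ _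
        _ = x ^ 4 := by rw [h4]; simp only [pow_succ, pow_zero, _root_.one_mul, _root_.mul_assoc]
        _ = 1 := hx4
    haveI := hpm
    haveI := isMonHom_npow p 2
    refine ⟨p, order2 e p hpm (npow_left_inj h2 ?_)⟩
    rw [← pow_mul]
    exact hp
  · haveI := isMonHom_mul' (𝟙 G) u.hom
    haveI := isMonHom_mul' (𝟙 G * u.hom) (u.hom ≫ u.hom)
    obtain ⟨p, hpm, hp⟩ := exists_root h3 (𝟙 G * u.hom * (u.hom ≫ u.hom)) fun T x hx3 => by
      have h1 := hx T x hx3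
      simp only [MonObj.mul_comp, GrpObj.inv_comp, Category.assoc, mul_inv_eq_one] at h1
      simp only [MonObj.comp_mul, Category.comp_id]
      rw [mul_inv_eq_iff_eq_mul] at h1
      rw [h1]
      calc x * (x ≫ u.hom) * ((x ≫ u.hom) * x⁻¹ * (x ≫ u.hom))
          = (x ≫ u.hom) ^ 3 * (x * x⁻¹) := by simp only [pow_succ, pow_zero, _root_.one_mul]; ac_rfl
        _ = 1 := by rw [← MonObj.pow_comp, hx3, MonObj.one_comp, mul_inv_cancel, _root_.one_mul]
    haveI := hpm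
    refine ⟨p, hpm, idem_of_root h3 hp ?_, fun e' => ?_, fun _ => ?_⟩
    · simp only [MonObj.comp_mul, MonObj.mul_comp, Category.id_comp, Category.comp_id, Category.assoc, h33 e,
        pow_succ, pow_zero, _root_.one_mul]
      ac_rfl
    · obtain rfl := both e' e
      have : p = 𝟙 G := by
        refine npow_left_inj h3 (hp.trans ?_)
        simp only [pow_succ, pow_zero, _root_.one_mul]
        show 𝟙 G * 𝟙 G * (𝟙 G ≫ 𝟙 G) = _
        rw [Category.id_comp]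
      subst this
      rfl
    · rw [show (u * u).hom = u.hom ≫ u.hom from rfl, ← hp]
      simp only [pow_succ, pow_zero, _root_.one_mul]

end

end Groth.Agent.H25.IdemDec
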